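import Mathlib
import Cfsg.Agent.Prune
set_option linter.all false
prune_inst 0x7f00000000000000000000000000000000000000000000000000000000000000000000000000000000000000000000000000000000000000000000000000000000000000000000000000000000000000003fffffffffffffffffffffffffffbeffbdffffffff
open scoped Cfsg.Agent.FastGrp

-- part: H380/TenRec/Om
section
/-! Groups all of whose element orders are element orders of `A₁₀`: basic closure properties. -/

set_option autoImplicit false

namespace Cfsg.Agent.H380.TenRec

/-- The element orders of `A₁₀`. -/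
abbrev L : List ℕ := [1, 2, 3, 4, 5, 6, 7, 8, 9, 10, 12, 15, 21]

/-- All element orders are element orders of `A₁₀`. -/
def Om (G : Type*) [Group G] : Prop := ∀ g : G, orderOf g ∈ L

theorem L_dvd : ∀ n ∈ L, ∀ d ∈ n.divisors, d ∈ L := by decide

theorem mem_L_of_dvd {n d : ℕ} (hn : n ∈ L) (hd : d ∣ n) : d ∈ L := by
  refine L_dvd n hn d (Nat.mem_divisors.2 ⟨hd, ?_⟩)
  rintro rfl
  revert hn; decide

theorem Om.of_dvd {G H : Type*} [Group G] [Group H] (hG : Om G) (h : ∀ x : H, ∃ g : G, orderOf x ∣ orderOf g) :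
    Om H := by
  intro x
  obtain ⟨g, hg⟩ := h x
  exact mem_L_of_dvd (hG g) hg

theorem Om.of_surjective {G H : Type*} [Group G] [Group H] (hG : Om G) (f : G →* H)
    (hf : Function.Surjective f) : Om H := by
  apply hG.of_dvd
  intro x
  obtain ⟨g, rfl⟩ := hf x
  exact ⟨g, orderOf_map_dvd f g⟩

theorem Om.quotient {G : Type*} [Group G] (hG : Om G) (N : Subgroup G) [N.Normal] : Om (G ⧸ N) :=
  hG.of_surjective (QuotientGroup.mk' N) (QuotientGroup.mk'_surjective N)

theorem Om.subgroup {G : Type*} [Group G] (hG : Om G) (H : Subgroup G) : Om H := by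
  apply hG.of_dvd
  intro x
  exact ⟨x, by rw [Subgroup.orderOf_coe]⟩

/-- No element order is divisible by a number outside the list. -/
theorem Om.not_dvd {G : Type*} [Group G] (hG : Om G) {n : ℕ} (hn : n ∉ L) (g : G) : ¬ n ∣ orderOf g :=
  fun h => hn (mem_L_of_dvd (hG g) h)

theorem Om.finite_order {G : Type*} [Group G] (hG : Om G) (g : G) : 0 < orderOf g := by
  have h := hG g
  rcases Nat.eq_zero_or_pos (orderOf g) with h0 | h0
  · rw [h0] at h; exact absurd h (by decide)
  · exact h0

/-- Commuting elements of coprime orders. -/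
theorem Om.commute {G : Type*} [Group G] (hG : Om G) {a b : G} (hc : Commute a b) {m n : ℕ}
    (ha : m ∣ orderOf a) (hb : n ∣ orderOf b) (hmn : m.Coprime n) : m * n ∈ L := by
  have ha0 := hG.finite_order a
  have hb0 := hG.finite_order b
  obtain ⟨k, hk⟩ := ha
  obtain ⟨l, hl⟩ := hb
  have hk0 : k ≠ 0 := by rintro rfl; rw [hk] at ha0; simp at ha0
  have hl0 : l ≠ 0 := by rintro rfl; rw [hl] at hb0; simp at hb0
  have h1 : orderOf (a ^ k) = m := by
    rw [orderOf_pow_of_dvd hk0 (by rw [hk]; exact dvd_mul_left k m), hk,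
      Nat.mul_div_cancel _ (Nat.pos_of_ne_zero hk0)]
  have h2 : orderOf (b ^ l) = n := by
    rw [orderOf_pow_of_dvd hl0 (by rw [hl]; exact dvd_mul_left l n), hl,
      Nat.mul_div_cancel _ (Nat.pos_of_ne_zero hl0)]
  have h3 : Commute (a ^ k) (b ^ l) := (hc.pow_left k).pow_right l
  have h4 := h3.orderOf_mul_eq_mul_orderOf_of_coprime (by rw [h1, h2]; exact hmn)
  rw [h1, h2] at h4
  rw [← h4]
  exact hG _

/-- The primes dividing the order. -/
theorem Om.primes {G : Type*} [Group G] [Finite G] (hG : Om G) {p : ℕ} (hp : p.Prime) (hd : p ∣ Nat.card G) :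
    p = 2 ∨ p = 3 ∨ p = 5 ∨ p = 7 := by
  have := Fact.mk hp
  obtain ⟨x, hx⟩ := exists_prime_orderOf_dvd_card' p hd
  have h := hG x
  rw [hx] at h
  have : ∀ p ∈ L, p.Prime → p = 2 ∨ p = 3 ∨ p = 5 ∨ p = 7 := by decide
  exact this p h hp

/-- Elements of coprime order outside the list do not commute: the case of elements of prime order. -/
theorem Om.false_of_commute {G : Type*} [Group G] (hG : Om G) {a b : G} (hc : Commute a b) {m n : ℕ}
    (ha : m ∣ orderOf a) (hb : n ∣ orderOf b) (hmn : m.Coprime n) (h : m * n ∉ L) : False :=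
  h (hG.commute hc ha hb hmn)

end Cfsg.Agent.H380.TenRec
end

-- part: H380/TenRec/Tools
section
/-! Tools for the recognition of `A₁₀`: normal elementary abelian subgroups, cardinalities of quotients. -/

set_option autoImplicit false

namespace Cfsg.Agent.H380.TenRec

variable {G : Type*} [Group G]

/-- A nontrivial solvable normal subgroup contains a nontrivial normal abelian subgroup of prime exponent. -/
theorem exists_normal_elem [Finite G] (K : Subgroup G) [K.Normal]
    (hK : K ≠ ⊥) (hs : Group.IsSolvable K) :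
    ∃ (p : ℕ) (V : Subgroup G), p.Prime ∧ V.Normal ∧ V ≤ K ∧ V ≠ ⊥ ∧ (∀ x ∈ V, ∀ y ∈ V, x * y = y * x) ∧
      ∀ x ∈ V, x ^ p = 1 := by
  classical
  have hA : ∃ A : Subgroup G, A.Normal ∧ A ≤ K ∧ A ≠ ⊥ ∧ ∀ x ∈ A, ∀ y ∈ A, x * y = y * x := by
    obtain ⟨n, hn⟩ := (Group.isSolvable_def K).1 hs
    have hex : ∃ n, derivedSeries K n = ⊥ := ⟨n, hn⟩
    set m := Nat.find hex with hm
    have hmspec : derivedSeries K m = ⊥ := Nat.find_spec hex
    have hm0 : m ≠ 0 := by
      intro h0
      rw [h0, derivedSeries_zero] at hmspec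
      apply hK
      rw [eq_bot_iff]
      intro x hx
      have : (⟨x, hx⟩ : K) ∈ (⊤ : Subgroup K) := Subgroup.mem_top _
      rw [hmspec, Subgroup.mem_bot] at this
      simpa using congrArg Subtype.val this
    obtain ⟨l, hl⟩ := Nat.exists_eq_succ_of_ne_zero hm0
    have hlne : derivedSeries K l ≠ ⊥ := by
      apply Nat.find_min hex
      omega
    have hchar : (derivedSeries K l).Characteristic := inferInstance
    refine ⟨(derivedSeries K l).map K.subtype, inferInstance, ?_, ?_, ?_⟩
    · rintro _ ⟨x, _, rfl⟩; exact x.2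
    · intro h
      apply hlne
      exact (Subgroup.map_eq_bot_iff_of_injective _ K.subtype_injective).1 h
    · have hcomm : ⁅derivedSeries K l, derivedSeries K l⁆ = ⊥ := by
        rw [← derivedSeries_succ]
        have : l + 1 = m := by omega
        rw [this]; exact hmspec
      rintro _ ⟨x, hx, rfl⟩ _ ⟨y, hy, rfl⟩
      have := Subgroup.commutator_mem_commutator hx hy
      rw [hcomm, Subgroup.mem_bot, commutatorElement_eq_one_iff_mul_comm] at this
      rw [← map_mul, this, map_mul]
  obtain ⟨A, hAn, hAK, hA0, hAc⟩ := hA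
  have : Nontrivial A := (Subgroup.nontrivial_iff_ne_bot A).2 hA0
  have hcard : Nat.card A ≠ 1 := by
    have := Finite.one_lt_card (α := A); omega
  obtain ⟨p, hp, hpd⟩ := Nat.exists_prime_and_dvd hcard
  have := Fact.mk hp
  obtain ⟨x, hx⟩ := exists_prime_orderOf_dvd_card' (G := A) p hpd
  refine ⟨p, ?_, hp, ?_, ?_, ?_, ?_, ?_⟩
  · exact
      { carrier := {x | x ∈ A ∧ x ^ p = 1}
        one_mem' := ⟨A.one_mem, one_pow _⟩
        mul_mem' := by
          rintro a b ⟨ha, ha'⟩ ⟨hb, hb'⟩
          refine ⟨A.mul_mem ha hb, ?_⟩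
          have hc : Commute a b := hAc a ha b hb
          rw [hc.mul_pow, ha', hb', one_mul]
        inv_mem' := by
          rintro a ⟨ha, ha'⟩
          refine ⟨A.inv_mem ha, ?_⟩
          rw [inv_pow, ha', inv_one] }
  · constructor
    rintro a ⟨ha, ha'⟩ g
    refine ⟨hAn.conj_mem a ha g, ?_⟩
    rw [conj_pow, ha', mul_one, mul_inv_cancel]
  · rintro a ⟨ha, _⟩
    exact hAK ha
  · intro h
    have hxm : (x : G) ∈ (⊥ : Subgroup G) := by
      rw [← h]
      refine ⟨x.2, ?_⟩
      have := pow_orderOf_eq_one x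
      rw [hx] at this
      simpa using congrArg Subtype.val this
    rw [Subgroup.mem_bot] at hxm
    have hx1 : x = 1 := Subtype.ext hxm
    rw [hx1, orderOf_one] at hx
    exact hp.one_lt.ne hx
  · rintro a ⟨ha, _⟩ b ⟨hb, _⟩
    exact hAc a ha b hb
  · rintro a ⟨_, ha'⟩
    exact ha'

theorem card_eq_pow [Finite G] {p : ℕ} (hp : p.Prime) (V : Subgroup G) (hV : ∀ x ∈ V, x ^ p = 1) :
    ∃ n, Nat.card V = p ^ n := by
  have := Fact.mk hp
  apply IsPGroup.iff_card.1
  intro x
  refine ⟨1, ?_⟩
  apply Subtype.ext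
  rw [pow_one]
  exact hV x x.2

theorem card_quot_mul [Finite G] (M : Subgroup G) [M.Normal] : Nat.card (G ⧸ M) * Nat.card M = Nat.card G :=
  (Subgroup.card_eq_card_quotient_mul_card_subgroup M).symm

/-- The order of the preimage of a subgroup of the quotient. -/
theorem card_comap_mk [Finite G] (M : Subgroup G) [M.Normal] (V : Subgroup (G ⧸ M)) :
    Nat.card (V.comap (QuotientGroup.mk' M)) = Nat.card V * Nat.card M := by
  have h1 := Subgroup.index_comap_of_surjective V (QuotientGroup.mk'_surjective M)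
  have h2 := (V.comap (QuotientGroup.mk' M)).card_mul_index
  have h3 := V.card_mul_index
  have h4 := card_quot_mul M
  rw [h1] at h2
  have h5 : 0 < V.index := Nat.pos_of_ne_zero Subgroup.index_ne_zero_of_finite
  apply Nat.eq_of_mul_eq_mul_right h5
  calc _ = Nat.card G := h2
    _ = Nat.card (G ⧸ M) * Nat.card M := h4.symm
    _ = _ := by rw [← h3]; ring

/-- A subgroup which together with the normal subgroup `M` generates the group maps onto the quotient. -/
theorem card_quot_dvd [Finite G] (M N : Subgroup G) [M.Normal] (h : M ⊔ N = ⊤) :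
    Nat.card (G ⧸ M) ∣ Nat.card N := by
  have h1 : N.map (QuotientGroup.mk' M) = ⊤ := by
    have h2 : (M ⊔ N).map (QuotientGroup.mk' M) = ⊤ := by
      rw [h, ← MonoidHom.range_eq_map, MonoidHom.range_eq_top]
      exact QuotientGroup.mk'_surjective M
    rw [Subgroup.map_sup, QuotientGroup.map_mk'_self, bot_sup_eq] at h2
    exact h2
  have h3 := Subgroup.card_map_dvd N (QuotientGroup.mk' M)
  rw [h1] at h3
  simpa using h3

/-- The order of a subgroup normalizing a cyclic group of prime order, in terms of its centralizer. -/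
theorem card_normalizer_dvd [Finite G] (R : Subgroup G) [IsCyclic R] :
    Nat.card (Subgroup.normalizer (R : Set G)) ∣
      (Nat.card R).totient * Nat.card (Subgroup.centralizer (R : Set G)) := by
  have h1 := R.normalizerMonoidHom_ker
  have h2 := (R.normalizerMonoidHom).ker.card_mul_index
  rw [Subgroup.index_ker, h1] at h2
  have h3 : Nat.card ((R.normalizerMonoidHom).range) ∣ Nat.card (MulAut R) := Subgroup.card_subgroup_dvd_card _
  rw [IsCyclic.card_mulAut] at h3
  have h4 : Nat.card ((Subgroup.centralizer (R : Set G)).subgroupOf (Subgroup.normalizer (R : Set G))) ∣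
      Nat.card (Subgroup.centralizer (R : Set G)) := by
    rw [← Subgroup.card_subtype, Subgroup.subgroupOf_map_subtype]
    exact Subgroup.card_dvd_of_le inf_le_left
  rw [← h2, mul_comm]
  exact mul_dvd_mul h3 h4

end Cfsg.Agent.H380.TenRec
end
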